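import Cfsg.Agent.Lib.Spor.J2Unique.Unique
import Mathlib.GroupTheory.Subgroup.Simple

/-!
# A group of order 604800 with a configuration is the Hall–Janko group
-/

set_option autoImplicit false

namespace CfsgLib.Spor.J2Unique

open CfsgLib.Spor.TC CfsgLib.Spor.HN CfsgLib.Char.J2 Subgroup

universe u

variable {G : Type u} [Group G]

theorem map_gv {H : Type*} [Group H] (f : G →* H) (a b p q : G) (w : List ℕ) :
    f (ev (gv a b p q) w) = ev (gv (f a) (f b) (f p) (f q)) w :=
  map_ev_letterVal f [a, b, p, q] w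

theorem map_lv {H : Type*} [Group H] (f : G →* H) (a b p q : G) (w : List ℕ) :
    f (ev (lv a b p q) w) = ev (lv (f a) (f b) (f p) (f q)) w := by
  unfold lv elR elS
  rw [map_ev_letterVal]
  simp only [List.map_cons, List.map_nil, map_gv]

theorem simple_P100 [h : IsSimpleGroup Cfsg.Spor.J2] : IsSimpleGroup ↥P100 :=
  equivP100.isSimpleGroup_congr.1 h

/-- The main theorem. -/
theorem nonempty_mulEquiv [Finite G] [IsSimpleGroup Cfsg.Spor.J2] {a b p q : G} (c : Config a b p q)
    (hG : Nat.card G = 604800) : Nonempty (G ≃* Cfsg.Spor.J2) := by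
  classical
  haveI := simple_P100
  let A : G × ↥P100 := (a, ⟨Model.val 0, Model.val_mem 0⟩)
  let B : G × ↥P100 := (b, ⟨Model.val 1, Model.val_mem 1⟩)
  let P : G × ↥P100 := (p, ⟨Model.val 2, Model.val_mem 2⟩)
  let Q : G × ↥P100 := (q, ⟨Model.val 3, Model.val_mem 3⟩)
  haveI : Finite ↥P100 := Nat.finite_of_card_ne_zero (by rw [card_P100]; norm_num)
  set Γ := closure ({A, B, P, Q} : Set (G × ↥P100)) with hΓ
  have hmem : A ∈ Γ ∧ B ∈ Γ ∧ P ∈ Γ ∧ Q ∈ Γ :=
    ⟨subset_closure (by simp), subset_closure (by simp), subset_closure (by simp), subset_closure (by simp)⟩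
  let A' : Γ := ⟨A, hmem.1⟩
  let B' : Γ := ⟨B, hmem.2.1⟩
  let P' : Γ := ⟨P, hmem.2.2.1⟩
  let Q' : Γ := ⟨Q, hmem.2.2.2⟩
  have hfull := c.full
  have hgen : closure ({A', B', P', Q'} : Set Γ) = ⊤ := by
    refine eq_top_iff.2 fun x hx0 => ?_
    clear hx0
    obtain ⟨x, hx⟩ := x
    induction hx using closure_induction with
    | mem y hy =>
      refine subset_closure ?_
      simpa [A', B', P', Q', Subtype.ext_iff] using hy
    | one => exact one_mem _
    | mul y z _ _ hy hz => exact mul_mem hy hz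
    | inv y _ hy => exact inv_mem hy
  have hcard : Nat.card Γ ≤ 604800 := by
    refine card_full_le A' B' P' Q' hgen (fun w hw => Subtype.ext (Prod.ext ?_ (Subtype.ext ?_)))
      fun w hw => Subtype.ext (Prod.ext ?_ (Subtype.ext ?_))
    · show ((MonoidHom.fst _ _).comp Γ.subtype) _ = 1
      rw [map_gv]; exact hfull w hw
    · show (P100.subtype.comp ((MonoidHom.snd _ _).comp Γ.subtype)) _ = 1
      rw [map_gv]; exact Model.rels (List.mem_append_left _ hw)
    · show ((MonoidHom.fst _ _).comp Γ.subtype) _ = 1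
      rw [map_lv]; exact c.loc w hw
    · show (P100.subtype.comp ((MonoidHom.snd _ _).comp Γ.subtype)) _ = 1
      rw [map_lv, ← ev_glob]
      exact Model.rels (List.mem_append_right _ (List.mem_map_of_mem hw))
  let π : Γ →* ↥P100 := (MonoidHom.snd _ _).comp Γ.subtype
  have hsurj : Function.Surjective π := by
    intro x
    have hle : P100 ≤ π.range.map P100.subtype := by
      refine Model.closure_eq.ge.trans ((closure_le _).2 fun y hy => ?_)
      simp only [Model.valList, Set.mem_setOf_eq, List.mem_cons, List.not_mem_nil, or_false] at hy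
      rcases hy with rfl | rfl | rfl | rfl
      exacts [⟨_, ⟨A', rfl⟩, rfl⟩, ⟨_, ⟨B', rfl⟩, rfl⟩, ⟨_, ⟨P', rfl⟩, rfl⟩, ⟨_, ⟨Q', rfl⟩, rfl⟩]
    obtain ⟨y, hy, e⟩ := hle x.2
    rw [← Subtype.ext e]
    exact hy
  have hbij : Function.Bijective π := hsurj.bijective_of_nat_card_le (by rw [card_P100]; exact hcard)
  let ψ : ↥P100 →* G := ((MonoidHom.fst _ _).comp Γ.subtype).comp (MulEquiv.ofBijective π hbij).symm.toMonoidHom
  have hinj : Function.Injective ψ := by
    rcases (inferInstance : IsSimpleGroup ↥P100).eq_bot_or_eq_top_of_normal ψ.ker inferInstance with h | h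
    · exact (MonoidHom.ker_eq_bot_iff ψ).1 h
    · exfalso
      refine c.notMem ?_
      have e : ψ (π (ev (gv A' B' P' Q') wR)) = elR a b p q := by
        rw [← MulEquiv.ofBijective_apply π hbij]
        simp only [ψ, MonoidHom.comp_apply, MulEquiv.toMonoidHom_eq_coe, MonoidHom.coe_coe, MulEquiv.symm_apply_apply]
        rw [← MonoidHom.comp_apply, map_gv]
        rfl
      have : π (ev (gv A' B' P' Q') wR) ∈ ψ.ker := h ▸ mem_top _
      rw [← e, MonoidHom.mem_ker.1 this]
      exact one_mem _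
  refine ⟨((MulEquiv.ofBijective ψ ((Nat.bijective_iff_injective_and_card ψ).2 ⟨hinj, by
    rw [card_P100, hG]⟩)).symm).trans equivP100.symm⟩

end CfsgLib.Spor.J2Unique
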