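import Mathlib
import Cfsg.Agent.Lib.Spor.HN.Words

/-!
# Words of the configuration that determines the Hall–Janko group

The global letters stand for `a, b, p, q`, the local ones for `p, q, r, s`, where `r` and `s` are the
words `wR` and `wS` in `a, b`. The letters `2 i` and `2 i + 1` stand for a generator and its inverse.
-/

set_option autoImplicit false

namespace CfsgLib.Spor.J2Unique

open CfsgLib.Spor.TC CfsgLib.Spor.HN

/-- The inverse word. -/
def inv' (l : List ℕ) : List ℕ := (l.map fun x => x ^^^ 1).reverse

/-- The commutator word. -/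
def com (x y : List ℕ) : List ℕ := inv' x ++ inv' y ++ x ++ y

/-- The inverter of `ab`. -/
def wR : List ℕ := [2, 0, 3, 0, 2, 0, 3]

/-- An involution commuting with the inverter. -/
def wS : List ℕ := [0, 3, 0, 2, 0]

/-- The involution `v`, in local letters `p, q`. -/
def lV : List ℕ := [2, 0, 3, 0, 2, 0, 3]

/-- The conjugating words of the five points, in local letters. -/
def lW : Fin 5 → List ℕ := ![[], [0], [0, 2], [0, 3], [0, 2, 0]]

/-- The five points, in local letters. -/
def lPt (k : Fin 5) : List ℕ := inv' (lW k) ++ [6] ++ lW k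

/-- Local letters as global words. -/
def img : ℕ → List ℕ
  | 0 => [4] | 1 => [5] | 2 => [6] | 3 => [7] | 4 => wR | 5 => inv' wR | 6 => wS | 7 => inv' wS | _ => []

/-- A local word as a global word. -/
def glob (l : List ℕ) : List ℕ := l.flatMap img

/-- The product of the five points. -/
def lProd : List ℕ := lPt 0 ++ lPt 1 ++ lPt 2 ++ lPt 3 ++ lPt 4

/-- The element of the extraspecial group with the given bits, in local letters. -/
def lU (n : Fin 32) : List ℕ :=
  (if n.1.testBit 0 then [4] else []) ++ (if n.1.testBit 1 then [6] else []) ++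
  (if n.1.testBit 2 then lPt 1 else []) ++ (if n.1.testBit 3 then lPt 2 else []) ++
  (if n.1.testBit 4 then lPt 3 else [])

/-- The elements of the four-group, in local letters. -/
def lT : Fin 4 → List ℕ := ![[], lV, [0, 3, 0, 2, 0], [3, 0, 3, 0, 2, 0, 2]]

/-- The candidate value, in local letters. -/
def lVal (n : Fin 32) (k : Fin 4) : List ℕ := lU n ++ lT k

/-- The product of two points that is conjugated. -/
def lX : List ℕ := lPt 1 ++ lPt 3

/-- The relator fixing a value. -/
def optRel (n : Fin 32) (k : Fin 4) : List ℕ :=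
  [2] ++ glob lX ++ [3] ++ inv' (glob (lVal n k))

/-- The relators common to all cases. -/
def commonRels : List (List ℕ) := [
  [0, 0], [2, 2, 2], [0, 2, 0, 2, 0, 2, 0, 2, 0, 2], [4, 4], [6, 6, 6], [4, 6, 4, 6, 4, 6, 4, 6, 4, 6],
  com [0] [6], com [2] [6], com [0] (glob lV), com [2] (glob lV), com [0, 2] [4], com [0, 2] [6],
  com wR [4], com wR [6],
  glob ([6, 0, 6, 0] ++ [6, 0, 6, 0] ++ [5]),
  glob lProd,
  glob (lX ++ lX ++ [5]),
  glob (com [4] (lPt 1))]

/-- The local relators. -/
def locRels : List (List ℕ) := [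
  [0, 0], [2, 2, 2], [0, 2, 0, 2, 0, 2, 0, 2, 0, 2], [6, 6], [4, 4],
  com [6] [2], com [4] [0], com [4] [2], com [6] [4], com [6] lV,
  [6, 0, 6, 0, 6, 0, 6, 0, 5], lProd]

/-- The local relator excluding a value. -/
def exclRel (n : Fin 32) (k : Fin 4) : List ℕ := lVal n k ++ lVal n k ++ [6, 4]

/-- The relators of the surviving case. -/
def fullRels : List (List ℕ) := commonRels ++ [optRel 12 2]

end CfsgLib.Spor.J2Unique
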