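import Cfsg.Agent.Lib.Spor.J2Unique.Words
import Cfsg.Agent.Lib.Spor.J2Unique.Full.All
import Cfsg.Agent.Lib.Spor.J2Unique.Local.All
import Cfsg.Agent.Lib.Spor.J2Unique.Icosa.All
import Cfsg.Agent.Lib.Spor.J2Unique.Excl0
import Cfsg.Agent.Lib.Spor.J2Unique.Excl1
import Cfsg.Agent.Lib.Spor.J2Unique.Excl2
import Cfsg.Agent.Lib.Spor.J2Unique.Excl3
import Cfsg.Agent.Lib.Spor.J2Unique.Case0.All
import Cfsg.Agent.Lib.Spor.J2Unique.Case1.All
import Cfsg.Agent.Lib.Spor.J2Unique.Case2.All
import Cfsg.Agent.Lib.Spor.J2Unique.Case3.All
import Cfsg.Agent.Lib.Spor.J2Unique.Case4.All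
import Cfsg.Agent.Lib.Spor.J2Unique.Case5.All
import Cfsg.Agent.Lib.Spor.J2Unique.Case6.All
import Cfsg.Agent.Lib.Spor.J2Unique.Case7.All
import Cfsg.Agent.Lib.Spor.J2Unique.Case8.All
import Cfsg.Agent.Lib.Spor.J2Unique.Case9.All
import Cfsg.Agent.Lib.Spor.J2Unique.Case10.All

/-!
# The certificates read through the words
-/

set_option autoImplicit false
set_option maxRecDepth 100000

namespace CfsgLib.Spor.J2Unique

open CfsgLib.Spor.TC CfsgLib.Spor.HN

theorem full_rels : ∀ r ∈ Full.rels, r ∈ fullRels := by decide +kernel

theorem full_subs : Full.subs = [[4], [6], wR, wS] := by decide +kernel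

theorem local_rels : ∀ r ∈ Local.rels, r ∈ locRels := by decide +kernel

theorem local_subs : Local.subs = [[0], [2]] := by decide +kernel

universe u

/-- Relators and subgroup generators force a word into the subgroup. -/
def Forces (rels subs : List (List ℕ)) (w : List ℕ) : Prop :=
  ∀ {G : Type u} [Group G] (g : ℕ → G), (∀ x, g (invLetter 8 x) = (g x)⁻¹) → g 8 = 1 →
    (∀ r ∈ rels, ev g r = 1) → ∀ H : Subgroup G, (∀ r ∈ subs, ev g r ∈ H) → ev g w ∈ H

theorem forces_of {C : Cert} {nE code : ℕ} {rels subs : List (List ℕ)} {w : List ℕ} (hk : C.k = 8)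
    (hsteps : C.SStepsOK 0 nE) (htr : C.sTraceOK nE w code = true) (hr : ∀ r ∈ C.rels, r ∈ rels)
    (hs : ∀ r ∈ C.subs, r ∈ subs) : Forces.{u} rels subs w :=
  fun g hg h8 hrel H hsub => Cert.mem_of_sTrace hsteps htr g (fun x => hk ▸ hg x) (hk ▸ h8)
    (fun r h => hrel r (hr r h)) H fun r h => hsub r (hs r h)

/-- The values excluded in the whole group. -/
def bigOpts : List (Fin 32 × Fin 4) := [(13, 2), (14, 2), (15, 2), (20, 1), (21, 1), (22, 1), (23, 1), (24, 3), (25, 3), (26, 3), (27, 3)]

/-- The values excluded in the centralizer. -/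
def locOpts : List (Fin 32 × Fin 4) := [(0, 0), (0, 1), (0, 2), (0, 3), (1, 0), (1, 1), (1, 2), (1, 3), (2, 0), (2, 1), (2, 2), (2, 3), (3, 0), (3, 1), (3, 2), (3, 3), (12, 0), (12, 1), (12, 3), (13, 0), (13, 1), (13, 3), (14, 0), (14, 1), (14, 3), (15, 0), (15, 1), (15, 3), (20, 0), (20, 2), (20, 3), (21, 0), (21, 2), (21, 3), (22, 0), (22, 2), (22, 3), (23, 0), (23, 2), (23, 3), (24, 0), (24, 1), (24, 2), (25, 0), (25, 1), (25, 2), (26, 0), (26, 1), (26, 2), (27, 0), (27, 1), (27, 2)]

theorem opts_cover : ∀ n : Fin 32, ∀ k : Fin 4,
    (n.1.testBit 2 ^^ n.1.testBit 3 ^^ n.1.testBit 4) = false →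
      (n = 12 ∧ k = 2) ∨ (n, k) ∈ bigOpts ∨ (n, k) ∈ locOpts := by
  decide +kernel

theorem big_forces : ∀ o ∈ bigOpts,
    Forces.{u} (commonRels ++ [optRel o.1 o.2]) [[4], [6], wR, wS] [2] := by
  simp only [bigOpts, List.forall_mem_cons, List.not_mem_nil, false_implies, implies_true, and_true]
  exact ⟨forces_of (C := Case0.cert) rfl Case0.steps_ok Case0.trace (by decide +kernel) (by decide +kernel),
    forces_of (C := Case1.cert) rfl Case1.steps_ok Case1.trace (by decide +kernel) (by decide +kernel),
    forces_of (C := Case2.cert) rfl Case2.steps_ok Case2.trace (by decide +kernel) (by decide +kernel),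
    forces_of (C := Case3.cert) rfl Case3.steps_ok Case3.trace (by decide +kernel) (by decide +kernel),
    forces_of (C := Case4.cert) rfl Case4.steps_ok Case4.trace (by decide +kernel) (by decide +kernel),
    forces_of (C := Case5.cert) rfl Case5.steps_ok Case5.trace (by decide +kernel) (by decide +kernel),
    forces_of (C := Case6.cert) rfl Case6.steps_ok Case6.trace (by decide +kernel) (by decide +kernel),
    forces_of (C := Case7.cert) rfl Case7.steps_ok Case7.trace (by decide +kernel) (by decide +kernel),
    forces_of (C := Case8.cert) rfl Case8.steps_ok Case8.trace (by decide +kernel) (by decide +kernel),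
    forces_of (C := Case9.cert) rfl Case9.steps_ok Case9.trace (by decide +kernel) (by decide +kernel),
    forces_of (C := Case10.cert) rfl Case10.steps_ok Case10.trace (by decide +kernel) (by decide +kernel)⟩

theorem loc_forces : ∀ o ∈ locOpts,
    Forces.{u} (locRels ++ [exclRel o.1 o.2]) [[0], [2]] [4] := by
  simp only [locOpts, List.forall_mem_cons, List.not_mem_nil, false_implies, implies_true, and_true]
  exact ⟨forces_of (C := Excl0.cert) rfl Excl0.steps_ok Excl0.trace (by decide +kernel) (by decide +kernel),
    forces_of (C := Excl1.cert) rfl Excl1.steps_ok Excl1.trace (by decide +kernel) (by decide +kernel),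
    forces_of (C := Excl2.cert) rfl Excl2.steps_ok Excl2.trace (by decide +kernel) (by decide +kernel),
    forces_of (C := Excl3.cert) rfl Excl3.steps_ok Excl3.trace (by decide +kernel) (by decide +kernel),
    forces_of (C := Excl4.cert) rfl Excl4.steps_ok Excl4.trace (by decide +kernel) (by decide +kernel),
    forces_of (C := Excl5.cert) rfl Excl5.steps_ok Excl5.trace (by decide +kernel) (by decide +kernel),
    forces_of (C := Excl6.cert) rfl Excl6.steps_ok Excl6.trace (by decide +kernel) (by decide +kernel),
    forces_of (C := Excl7.cert) rfl Excl7.steps_ok Excl7.trace (by decide +kernel) (by decide +kernel),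
    forces_of (C := Excl8.cert) rfl Excl8.steps_ok Excl8.trace (by decide +kernel) (by decide +kernel),
    forces_of (C := Excl9.cert) rfl Excl9.steps_ok Excl9.trace (by decide +kernel) (by decide +kernel),
    forces_of (C := Excl10.cert) rfl Excl10.steps_ok Excl10.trace (by decide +kernel) (by decide +kernel),
    forces_of (C := Excl11.cert) rfl Excl11.steps_ok Excl11.trace (by decide +kernel) (by decide +kernel),
    forces_of (C := Excl12.cert) rfl Excl12.steps_ok Excl12.trace (by decide +kernel) (by decide +kernel),
    forces_of (C := Excl13.cert) rfl Excl13.steps_ok Excl13.trace (by decide +kernel) (by decide +kernel),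
    forces_of (C := Excl14.cert) rfl Excl14.steps_ok Excl14.trace (by decide +kernel) (by decide +kernel),
    forces_of (C := Excl15.cert) rfl Excl15.steps_ok Excl15.trace (by decide +kernel) (by decide +kernel),
    forces_of (C := Excl16.cert) rfl Excl16.steps_ok Excl16.trace (by decide +kernel) (by decide +kernel),
    forces_of (C := Excl17.cert) rfl Excl17.steps_ok Excl17.trace (by decide +kernel) (by decide +kernel),
    forces_of (C := Excl18.cert) rfl Excl18.steps_ok Excl18.trace (by decide +kernel) (by decide +kernel),
    forces_of (C := Excl19.cert) rfl Excl19.steps_ok Excl19.trace (by decide +kernel) (by decide +kernel),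
    forces_of (C := Excl20.cert) rfl Excl20.steps_ok Excl20.trace (by decide +kernel) (by decide +kernel),
    forces_of (C := Excl21.cert) rfl Excl21.steps_ok Excl21.trace (by decide +kernel) (by decide +kernel),
    forces_of (C := Excl22.cert) rfl Excl22.steps_ok Excl22.trace (by decide +kernel) (by decide +kernel),
    forces_of (C := Excl23.cert) rfl Excl23.steps_ok Excl23.trace (by decide +kernel) (by decide +kernel),
    forces_of (C := Excl24.cert) rfl Excl24.steps_ok Excl24.trace (by decide +kernel) (by decide +kernel),
    forces_of (C := Excl25.cert) rfl Excl25.steps_ok Excl25.trace (by decide +kernel) (by decide +kernel),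
    forces_of (C := Excl26.cert) rfl Excl26.steps_ok Excl26.trace (by decide +kernel) (by decide +kernel),
    forces_of (C := Excl27.cert) rfl Excl27.steps_ok Excl27.trace (by decide +kernel) (by decide +kernel),
    forces_of (C := Excl28.cert) rfl Excl28.steps_ok Excl28.trace (by decide +kernel) (by decide +kernel),
    forces_of (C := Excl29.cert) rfl Excl29.steps_ok Excl29.trace (by decide +kernel) (by decide +kernel),
    forces_of (C := Excl30.cert) rfl Excl30.steps_ok Excl30.trace (by decide +kernel) (by decide +kernel),
    forces_of (C := Excl31.cert) rfl Excl31.steps_ok Excl31.trace (by decide +kernel) (by decide +kernel),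
    forces_of (C := Excl32.cert) rfl Excl32.steps_ok Excl32.trace (by decide +kernel) (by decide +kernel),
    forces_of (C := Excl33.cert) rfl Excl33.steps_ok Excl33.trace (by decide +kernel) (by decide +kernel),
    forces_of (C := Excl34.cert) rfl Excl34.steps_ok Excl34.trace (by decide +kernel) (by decide +kernel),
    forces_of (C := Excl35.cert) rfl Excl35.steps_ok Excl35.trace (by decide +kernel) (by decide +kernel),
    forces_of (C := Excl36.cert) rfl Excl36.steps_ok Excl36.trace (by decide +kernel) (by decide +kernel),
    forces_of (C := Excl37.cert) rfl Excl37.steps_ok Excl37.trace (by decide +kernel) (by decide +kernel),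
    forces_of (C := Excl38.cert) rfl Excl38.steps_ok Excl38.trace (by decide +kernel) (by decide +kernel),
    forces_of (C := Excl39.cert) rfl Excl39.steps_ok Excl39.trace (by decide +kernel) (by decide +kernel),
    forces_of (C := Excl40.cert) rfl Excl40.steps_ok Excl40.trace (by decide +kernel) (by decide +kernel),
    forces_of (C := Excl41.cert) rfl Excl41.steps_ok Excl41.trace (by decide +kernel) (by decide +kernel),
    forces_of (C := Excl42.cert) rfl Excl42.steps_ok Excl42.trace (by decide +kernel) (by decide +kernel),
    forces_of (C := Excl43.cert) rfl Excl43.steps_ok Excl43.trace (by decide +kernel) (by decide +kernel),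
    forces_of (C := Excl44.cert) rfl Excl44.steps_ok Excl44.trace (by decide +kernel) (by decide +kernel),
    forces_of (C := Excl45.cert) rfl Excl45.steps_ok Excl45.trace (by decide +kernel) (by decide +kernel),
    forces_of (C := Excl46.cert) rfl Excl46.steps_ok Excl46.trace (by decide +kernel) (by decide +kernel),
    forces_of (C := Excl47.cert) rfl Excl47.steps_ok Excl47.trace (by decide +kernel) (by decide +kernel),
    forces_of (C := Excl48.cert) rfl Excl48.steps_ok Excl48.trace (by decide +kernel) (by decide +kernel),
    forces_of (C := Excl49.cert) rfl Excl49.steps_ok Excl49.trace (by decide +kernel) (by decide +kernel),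
    forces_of (C := Excl50.cert) rfl Excl50.steps_ok Excl50.trace (by decide +kernel) (by decide +kernel),
    forces_of (C := Excl51.cert) rfl Excl51.steps_ok Excl51.trace (by decide +kernel) (by decide +kernel)⟩

end CfsgLib.Spor.J2Unique
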