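import Cfsg.Agent.Lib.Spor.J2Unique.Words
import Cfsg.Agent.Lib.Char.J2.Hundred

/-!
# Generators of the Hall–Janko group satisfying the relators
-/

set_option autoImplicit false
set_option maxRecDepth 100000

namespace CfsgLib.Spor.J2Unique.Model

open CfsgLib.Spor.TC CfsgLib.Spor.HN CfsgLib.Char.J2

/-- The words in the reflections of the four generators. -/
def gens : List (List ℕ) :=
  [[2, 0, 3, 2, 3, 0, 2], [2, 0, 3, 2, 1, 3, 2, 1, 3, 1, 0],
    [3, 1, 2, 3, 0, 1, 3, 0, 1, 3, 1, 0, 2, 1, 0], [2, 3, 0, 1, 0, 3, 2, 3, 2, 1, 0, 2, 1]]

/-- The reflections as words in the four generators. -/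
def back : List (List ℕ) :=
  [[3, 7, 4, 3, 4, 6, 4, 2, 0, 6, 4, 3, 6, 4], [2, 0, 3, 0, 6, 4, 3, 7, 4, 7, 4, 3, 4, 2],
    [0, 3, 0, 2, 0, 3, 0, 3], [0, 4, 7, 4, 2, 0, 2, 7, 4, 0, 6, 4, 3, 6]]

/-- A letter as a word in the reflections. -/
def lift (x : ℕ) : List ℕ :=
  if x % 2 = 0 then gens.getD (x / 2) [] else (gens.getD (x / 2) []).reverse

/-- The values of the generators. -/
noncomputable def val (i : ℕ) : Equiv.Perm (Fin 100) := rho (gWord (gens.getD i []))

/-- The list of the generators. -/
noncomputable def valList : List (Equiv.Perm (Fin 100)) := [val 0, val 1, val 2, val 3]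

theorem inv_check : ((List.range 4).all fun i => (List.range 100).all fun b =>
    wB ((gens.getD i []).reverse ++ gens.getD i []) b == b) = true := by
  decide +kernel

theorem gWord_append : ∀ u v : List ℕ, gWord (u ++ v) = gWord u * gWord v
  | [], v => by rw [List.nil_append, gWord, one_mul]
  | k :: u, v => by rw [List.cons_append, gWord, gWord, gWord_append u v, mul_assoc]

theorem eq_one_of_check {w : List ℕ} (h : ((List.range 100).all fun b => wB w b == b) = true) :
    rho (gWord w) = 1 := by
  simp only [List.all_eq_true, List.mem_range, beq_iff_eq] at h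
  refine Equiv.ext fun b => Fin.ext ?_
  rw [rho_gWord, h b.1 b.2]
  rfl

theorem letterVal_eq (x : ℕ) : letterVal valList x = rho (gWord (lift x)) := by
  have hv : ∀ i, valList.getD i 1 = rho (gWord (gens.getD i [])) := by
    intro i
    match i with
    | 0 | 1 | 2 | 3 => rfl
    | i + 4 =>
      rw [List.getD_eq_default _ _ (by simp [valList]), List.getD_eq_default _ _ (by simp [gens]), gWord, map_one]
  have hr : ∀ i, rho (gWord (gens.getD i []).reverse) = (rho (gWord (gens.getD i [])))⁻¹ := by
    intro i
    by_cases hi : i < 4
    · have h := inv_check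
      simp only [List.all_eq_true, List.mem_range] at h
      have h' : rho (gWord ((gens.getD i []).reverse ++ gens.getD i [])) = 1 :=
        eq_one_of_check (by simp only [List.all_eq_true, List.mem_range]; exact h i hi)
      rw [gWord_append, map_mul] at h'
      exact eq_inv_of_mul_eq_one_left h'
    · rw [List.getD_eq_default _ _ (by simp [gens]; omega), List.reverse_nil, gWord, map_one, inv_one]
  unfold letterVal lift
  split_ifs
  · exact hv _
  · rw [hr, hv]

theorem ev_eq : ∀ w : List ℕ, ev (letterVal valList) w = rho (gWord (w.flatMap lift))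
  | [] => by simp [ev, gWord]
  | x :: w => by rw [ev_cons, ev_eq w, List.flatMap_cons, gWord_append, map_mul, letterVal_eq]

theorem rels_check : ((fullRels ++ locRels.map glob).all fun w =>
    (List.range 100).all fun b => wB (w.flatMap lift) b == b) = true := by
  decide +kernel

theorem rels {w : List ℕ} (hw : w ∈ fullRels ++ locRels.map glob) : ev (letterVal valList) w = 1 := by
  rw [ev_eq]
  exact eq_one_of_check (List.all_eq_true.1 rels_check w hw)

theorem back_check : ((List.range 4).all fun k => (List.range 100).all fun b =>
    wB ((back.getD k []).flatMap lift) b == gB k b) = true := by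
  decide +kernel

theorem val_mem (i : ℕ) : val i ∈ P100 := ⟨_, rfl⟩

/-- The generators generate. -/
theorem closure_eq : Subgroup.closure {x | x ∈ valList} = P100 := by
  refine le_antisymm ((Subgroup.closure_le _).2 fun x hx => ?_) ?_
  · simp only [valList, Set.mem_setOf_eq, List.mem_cons, List.not_mem_nil, or_false] at hx
    rcases hx with rfl | rfl | rfl | rfl <;> exact val_mem _
  · rintro _ ⟨f, rfl⟩
    have hlet : ∀ x, letterVal valList x ∈ Subgroup.closure {x | x ∈ valList} := by
      intro x
      have : valList.getD (x / 2) 1 ∈ Subgroup.closure {x | x ∈ valList} := by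
        by_cases h : x / 2 < valList.length
        · rw [List.getD_eq_getElem _ _ h]
          exact Subgroup.subset_closure (List.getElem_mem h)
        · rw [List.getD_eq_default _ _ (by omega)]
          exact one_mem _
      unfold letterVal
      split_ifs
      exacts [this, inv_mem this]
    have hgI : ∀ k : Fin 4, rho (gI k) ∈ Subgroup.closure {x | x ∈ valList} := by
      intro k
      have e : rho (gI k) = ev (letterVal valList) (back.getD k.1 []) := by
        have h := back_check
        simp only [List.all_eq_true, List.mem_range, beq_iff_eq] at h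
        refine Equiv.ext fun b => Fin.ext ?_
        rw [ev_eq, rho_gWord, rho_gI, h k.1 k.2 b.1 b.2]
      rw [e]
      exact list_prod_mem fun y hy => by
        obtain ⟨x, -, rfl⟩ := List.mem_map.1 hy
        exact hlet x
    have hf : f ∈ gen4 := by rw [gen4_eq_top]; trivial
    induction hf using Subgroup.closure_induction with
    | mem f hf => obtain ⟨k, rfl⟩ := hf; exact hgI k
    | one => rw [map_one]; exact one_mem _
    | mul f g _ _ hf hg => rw [map_mul]; exact mul_mem hf hg
    | inv f _ hf => rw [map_inv]; exact inv_mem hf

end CfsgLib.Spor.J2Unique.Model
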