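import Cfsg.Agent.Lib.Spor.J2Unique.Certs
import Cfsg.Agent.Lib.Spor.J2Unique.Model
import Cfsg.Agent.Lib.Char.J2.Elements

/-!
# A configuration in a group of order 604800 determines the group

Four elements satisfying the common relators, the local relators and a weak condition on one
conjugate satisfy the relators of the surviving case, which present the Hall–Janko group.
-/

set_option autoImplicit false

namespace CfsgLib.Spor.J2Unique

open CfsgLib.Spor.TC CfsgLib.Spor.HN Subgroup

universe u

variable {G : Type u} [Group G]

/-- The values of the global letters. -/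
def gv (a b p q : G) : ℕ → G := letterVal [a, b, p, q]

/-- The inverter. -/
def elR (a b p q : G) : G := ev (gv a b p q) wR

/-- The involution commuting with the inverter. -/
def elS (a b p q : G) : G := ev (gv a b p q) wS

/-- The values of the local letters. -/
def lv (a b p q : G) : ℕ → G := letterVal [p, q, elR a b p q, elS a b p q]

theorem gv_inv (a b p q : G) (x : ℕ) : gv a b p q (invLetter 8 x) = (gv a b p q x)⁻¹ :=
  letterVal_inv [a, b, p, q] x

theorem lv_inv (a b p q : G) (x : ℕ) : lv a b p q (invLetter 8 x) = (lv a b p q x)⁻¹ :=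
  letterVal_inv [p, q, elR a b p q, elS a b p q] x

theorem ev_inv' {g : ℕ → G} (hg : ∀ x, g (x ^^^ 1) = (g x)⁻¹) : ∀ w : List ℕ, ev g (inv' w) = (ev g w)⁻¹
  | [] => by simp [ev, inv']
  | x :: w => by
    have e : inv' (x :: w) = inv' w ++ [x ^^^ 1] := by simp [inv']
    rw [e, ev_append, ev_inv' hg w, ev_cons g x w, mul_inv_rev]
    simp [ev, hg]

theorem letterVal_xor (l : List G) (x : ℕ) : letterVal l (x ^^^ 1) = (letterVal l x)⁻¹ := by
  unfold letterVal
  rcases Nat.mod_two_eq_zero_or_one x with h0 | h0
  · rw [Nat.xor_one_of_even (Nat.even_iff.2 h0), if_neg (by omega), if_pos h0,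
      show (x + 1) / 2 = x / 2 by omega]
  · rw [Nat.xor_one_of_odd (Nat.odd_iff.2 h0), if_pos (by omega), if_neg (by omega),
      show (x - 1) / 2 = x / 2 by omega, inv_inv]

theorem ev_img (a b p q : G) : ∀ x, ev (gv a b p q) (img x) = lv a b p q x := by
  intro x
  have hg : ∀ w, ev (gv a b p q) (inv' w) = (ev (gv a b p q) w)⁻¹ := ev_inv' (letterVal_xor _)
  match x with
  | 0 | 1 | 2 | 3 => simp [img, ev, gv, lv, letterVal]
  | 4 | 6 => simp [img, lv, letterVal, elR, elS]
  | 5 | 7 => simp [img, lv, letterVal, hg, elR, elS]
  | x + 8 =>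
    rw [lv, letterVal_of_le (by simp)]
    simp [img, ev]

theorem ev_glob (a b p q : G) : ∀ l, ev (gv a b p q) (glob l) = ev (lv a b p q) l
  | [] => rfl
  | x :: l => by
    rw [show glob (x :: l) = img x ++ glob l from List.flatMap_cons, ev_append, ev_img, ev_glob a b p q l, ev_cons]

/-- The configuration. -/
structure Config (a b p q : G) : Prop where
  common : ∀ w ∈ commonRels, ev (gv a b p q) w = 1
  loc : ∀ w ∈ locRels, ev (lv a b p q) w = 1
  conjR : b * elR a b p q * b⁻¹ = elR a b p q * elS a b p q
  notMem : elR a b p q ∉ closure ({p, q} : Set G)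
  value : ∃ (n : Fin 32) (k : Fin 4), (n.1.testBit 2 ^^ n.1.testBit 3 ^^ n.1.testBit 4) = false ∧
    b * ev (lv a b p q) lX * b⁻¹ = ev (lv a b p q) (lVal n k)

theorem Config.full {a b p q : G} (c : Config a b p q) : ∀ w ∈ fullRels, ev (gv a b p q) w = 1 := by
  obtain ⟨n, k, hpar, hval⟩ := c.value
  have hnotMem := c.notMem
  have hcR := c.conjR
  have hloc := c.loc
  have hcom := c.common
  unfold lv at hloc hval
  unfold gv at hcom
  generalize hRdef : elR a b p q = R at hloc hval hnotMem hcR
  generalize hSdef : elS a b p q = S at hloc hval hcR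
  show ∀ w ∈ fullRels, ev (letterVal [a, b, p, q]) w = 1
  have hglob : ∀ w, ev (letterVal [a, b, p, q]) (glob w) = ev (letterVal [p, q, R, S]) w := fun w => by
    rw [show letterVal [a, b, p, q] = gv a b p q from rfl, ev_glob, lv, hRdef, hSdef]
  set g := letterVal [a, b, p, q] with hgdef
  set l := letterVal [p, q, R, S] with hl
  have hRR : R * R = 1 := by
    have := hloc [4, 4] (by decide)
    simpa [ev, hl, letterVal] using this
  have hSS : S * S = 1 := by
    have := hloc [6, 6] (by decide)
    simpa [ev, hl, letterVal] using this
  have hopt : ev g (optRel n k) = 1 := by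
    rw [optRel, ev_append, ev_append, ev_append, ev_inv' (g := g) (letterVal_xor _), hglob, hglob, ← hval]
    simp [ev, hgdef, letterVal, mul_assoc]
  have hval2 : ev l (exclRel n k) = 1 := by
    rw [exclRel, ev_append, ev_append, ← hval]
    have hX : ev l lX * ev l lX = R := by
      have h := hcom (glob (lX ++ lX ++ [5])) (by decide +kernel)
      rw [hglob, ev_append, ev_append] at h
      have e5 : ev l [5] = R⁻¹ := by simp [ev, hl, letterVal]
      rw [e5] at h
      exact mul_inv_eq_one.1 h
    calc b * ev l lX * b⁻¹ * (b * ev l lX * b⁻¹) * ev l [6, 4]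
        = b * (ev l lX * ev l lX) * b⁻¹ * ev l [6, 4] := by group
      _ = R * S * (S * R) := by rw [hX, hcR]; simp [ev, hl, letterVal]
      _ = 1 := by rw [mul_assoc, ← mul_assoc S, hSS, one_mul, hRR]
  rcases opts_cover n k hpar with ⟨rfl, rfl⟩ | hb | hlo
  · intro w hw
    rcases List.mem_append.1 hw with h | h
    · exact hcom w h
    · rw [List.mem_singleton.1 h]; exact hopt
  · exfalso
    have hS1 : S ≠ 1 := by
      intro e
      have h := hloc [6, 0, 6, 0, 6, 0, 6, 0, 5] (by decide)
      have hp : p * p = 1 := by simpa [ev, hl, letterVal] using hloc [0, 0] (by decide)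
      simp [ev, hl, letterVal, e, hp, ← mul_assoc] at h
      exact hnotMem (by rw [h]; exact one_mem _)
    have hmem := big_forces (n, k) hb g (letterVal_inv [a, b, p, q]) (letterVal_of_le (by simp)) (fun w hw => by
      rcases List.mem_append.1 hw with h | h
      · exact hcom w h
      · rw [List.mem_singleton.1 h]; exact hopt) (centralizer ({R} : Set G)) (fun w hw => by
      rw [mem_centralizer_singleton_iff]
      simp only [List.mem_cons, List.not_mem_nil, or_false] at hw
      rcases hw with rfl | rfl | rfl | rfl
      · have h := hloc (com [4] [0]) (by decide)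
        simp [com, inv', ev, hl, letterVal] at h
        rw [show ev g [4] = p by simp [ev, hgdef, letterVal]]
        calc p * R = R * p * (R⁻¹ * (p⁻¹ * (R * p)))⁻¹ := by group
          _ = R * p := by rw [h, inv_one, mul_one]
      · have h := hloc (com [4] [2]) (by decide)
        simp [com, inv', ev, hl, letterVal] at h
        rw [show ev g [6] = q by simp [ev, hgdef, letterVal]]
        calc q * R = R * q * (R⁻¹ * (q⁻¹ * (R * q)))⁻¹ := by group
          _ = R * q := by rw [h, inv_one, mul_one]
      · rw [show ev g wR = R from hRdef]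
      · have h := hloc (com [6] [4]) (by decide)
        simp [com, inv', ev, hl, letterVal] at h
        rw [show ev g wS = S from hSdef]
        calc S * R = S * R * 1 := (mul_one _).symm
          _ = R * S * (S⁻¹ * (R⁻¹ * (S * R))) * 1 := by group
          _ = R * S := by rw [h]; group)
    rw [show ev g [2] = b by simp [ev, hgdef, letterVal], mem_centralizer_singleton_iff] at hmem
    have hc := hcR
    rw [hmem, mul_inv_cancel_right] at hc
    exact hS1 (by simpa using hc)
  · exfalso
    have hmem := loc_forces (n, k) hlo l (letterVal_inv [p, q, R, S]) (letterVal_of_le (by simp)) (fun w hw => by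
      rcases List.mem_append.1 hw with h | h
      · exact hloc w h
      · rw [List.mem_singleton.1 h]; exact hval2) (closure ({p, q} : Set G)) (fun w hw => by
      simp only [List.mem_cons, List.not_mem_nil, or_false] at hw
      rcases hw with rfl | rfl
      · exact subset_closure (by simp [ev, hl, letterVal])
      · exact subset_closure (by simp [ev, hl, letterVal]))
    exact hnotMem (by simpa [ev, hl, letterVal] using hmem)

/-- Letters evaluated in a subgroup. -/
theorem coe_ev {H : Subgroup G} (m : List H) (w : List ℕ) :
    ((ev (letterVal m) w : H) : G) = ev (letterVal (m.map fun x : H => (x : G))) w :=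
  map_ev_letterVal H.subtype m w

/-- The icosahedral presentation bounds the order. -/
theorem card_icosa_le [Finite G] (p q : G) (hgen : closure ({p, q} : Set G) = ⊤)
    (hrel : ∀ w ∈ locRels, w ∈ Icosa.rels → ev (letterVal [p, q]) w = 1) : Nat.card G ≤ 60 := by
  set g := letterVal [p, q] with hg
  have hsub : ∀ r ∈ Icosa.rels, r ∈ locRels := by decide +kernel
  obtain ⟨-, hi⟩ := Cert.index_le_signed Icosa.steps_ok Icosa.rows_ok (by decide +kernel) (by norm_num) g
    (fun x => letterVal_inv [p, q] x) (letterVal_of_le (le_refl 4))
    (fun x hx => invLetter_lt (by rfl) hx) (by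
      rw [eq_top_iff, ← hgen, closure_le]
      rintro x (rfl | rfl)
      · exact subset_closure ⟨0, Set.mem_Iio.2 (by decide +kernel), by simp [hg, letterVal]⟩
      · exact subset_closure ⟨2, Set.mem_Iio.2 (by decide +kernel), by simp [hg, letterVal]⟩)
    (fun r hr => hrel r (hsub r hr) hr) (zpowers q) (fun r hr => by
      have hs : Icosa.cert.subs = [[2]] := rfl
      rw [hs, List.mem_singleton] at hr
      subst hr
      simp [ev, hg, letterVal])
  have h3 : q ^ 3 = 1 := by
    have h := hrel [2, 2, 2] (by decide) (by decide +kernel)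
    simpa [ev, hg, letterVal, pow_succ, mul_assoc] using h
  have hq : orderOf q ≤ 3 := orderOf_le_of_pow_eq_one (by norm_num) h3
  rw [← (zpowers q).card_mul_index, Nat.card_zpowers]
  calc orderOf q * (zpowers q).index ≤ 3 * 20 := Nat.mul_le_mul hq hi
    _ = 60 := by norm_num

/-- The local presentation bounds the order. -/
theorem card_local_le [Finite G] (p q r s : G) (hgen : closure ({p, q, r, s} : Set G) = ⊤)
    (hrel : ∀ w ∈ locRels, ev (letterVal [p, q, r, s]) w = 1) : Nat.card G ≤ 1920 := by
  set g := letterVal [p, q, r, s] with hg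
  set H := closure ({p, q} : Set G) with hH
  obtain ⟨-, hi⟩ := Cert.index_le_signed Local.steps_ok Local.rows_ok (by decide +kernel) (by norm_num) g
    (fun x => letterVal_inv [p, q, r, s] x) (letterVal_of_le (le_refl 8))
    (fun x hx => invLetter_lt (by rfl) hx) (by
      rw [eq_top_iff, ← hgen, closure_le]
      rintro x (rfl | rfl | rfl | rfl)
      · exact subset_closure ⟨0, Set.mem_Iio.2 (by decide +kernel), by simp [hg, letterVal]⟩
      · exact subset_closure ⟨2, Set.mem_Iio.2 (by decide +kernel), by simp [hg, letterVal]⟩
      · exact subset_closure ⟨4, Set.mem_Iio.2 (by decide +kernel), by simp [hg, letterVal]⟩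
      · exact subset_closure ⟨6, Set.mem_Iio.2 (by decide +kernel), by simp [hg, letterVal]⟩)
    (fun w hw => hrel w (local_rels w hw)) H (fun w hw => by
      have hs : Local.cert.subs = [[0], [2]] := local_subs
      rw [hs] at hw
      simp only [List.mem_cons, List.not_mem_nil, or_false] at hw
      rcases hw with rfl | rfl
      · exact subset_closure (by simp [ev, hg, letterVal])
      · exact subset_closure (by simp [ev, hg, letterVal]))
  have hp : p ∈ H := subset_closure (by simp)
  have hq : q ∈ H := subset_closure (by simp)
  have h60 : Nat.card H ≤ 60 := by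
    refine card_icosa_le (⟨p, hp⟩ : H) ⟨q, hq⟩ ?_ fun w hw hw' => Subtype.ext ?_
    · refine eq_top_iff.2 fun x hx0 => ?_
      clear hx0
      obtain ⟨x, hx⟩ := x
      induction hx using closure_induction with
      | mem y hy =>
        refine subset_closure ?_
        simpa [Subtype.ext_iff] using hy
      | one => exact one_mem _
      | mul y z _ _ hy hz => exact mul_mem hy hz
      | inv y _ hy => exact inv_mem hy
    · rw [coe_ev, coe_one, List.map_cons, List.map_cons, List.map_nil]
      have hlt : ∀ v ∈ Icosa.rels, ∀ x ∈ v, x < 4 := by decide +kernel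
      rw [← hrel w hw]
      refine congrArg List.prod (List.map_congr_left fun x hx => ?_)
      have := hlt w hw' x hx
      interval_cases x <;> simp [hg, letterVal]
  rw [← H.card_mul_index]
  calc Nat.card H * H.index ≤ 60 * 32 := Nat.mul_le_mul h60 hi
    _ = 1920 := by norm_num

/-- The presentation of the surviving case bounds the order. -/
theorem card_full_le [Finite G] (a b p q : G) (hgen : closure ({a, b, p, q} : Set G) = ⊤)
    (hfull : ∀ w ∈ fullRels, ev (gv a b p q) w = 1) (hloc : ∀ w ∈ locRels, ev (lv a b p q) w = 1) :
    Nat.card G ≤ 604800 := by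
  set R := elR a b p q with hR
  set S := elS a b p q with hS
  set H := closure ({p, q, R, S} : Set G) with hH
  obtain ⟨-, hi⟩ := Cert.index_le_signed Full.steps_ok Full.rows_ok (by decide +kernel) (by norm_num)
    (gv a b p q) (gv_inv a b p q) (letterVal_of_le (le_refl 8))
    (fun x hx => invLetter_lt (by rfl) hx) (by
      rw [eq_top_iff, ← hgen, closure_le]
      rintro x (rfl | rfl | rfl | rfl)
      · exact subset_closure ⟨0, Set.mem_Iio.2 (by decide +kernel), by simp [gv, letterVal]⟩
      · exact subset_closure ⟨2, Set.mem_Iio.2 (by decide +kernel), by simp [gv, letterVal]⟩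
      · exact subset_closure ⟨4, Set.mem_Iio.2 (by decide +kernel), by simp [gv, letterVal]⟩
      · exact subset_closure ⟨6, Set.mem_Iio.2 (by decide +kernel), by simp [gv, letterVal]⟩)
    (fun w hw => hfull w (full_rels w hw)) H (fun w hw => by
      have hs : Full.cert.subs = [[4], [6], wR, wS] := full_subs
      rw [hs] at hw
      simp only [List.mem_cons, List.not_mem_nil, or_false] at hw
      rcases hw with rfl | rfl | rfl | rfl
      · exact subset_closure (by simp [ev, gv, letterVal])
      · exact subset_closure (by simp [ev, gv, letterVal])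
      · exact subset_closure (show R ∈ _ by simp)
      · exact subset_closure (show S ∈ _ by simp))
  have h1920 : Nat.card H ≤ 1920 := by
    refine card_local_le (⟨p, subset_closure (by simp)⟩ : H) ⟨q, subset_closure (by simp)⟩
      ⟨R, subset_closure (by simp)⟩ ⟨S, subset_closure (by simp)⟩ ?_ fun w hw => Subtype.ext ?_
    · refine eq_top_iff.2 fun x hx0 => ?_
      clear hx0
      obtain ⟨x, hx⟩ := x
      induction hx using closure_induction with
      | mem y hy =>
        refine subset_closure ?_
        simpa [Subtype.ext_iff] using hy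
      | one => exact one_mem _
      | mul y z _ _ hy hz => exact mul_mem hy hz
      | inv y _ hy => exact inv_mem hy
    · rw [coe_ev, coe_one, List.map_cons, List.map_cons, List.map_cons, List.map_cons, List.map_nil]
      exact hloc w hw
  rw [← H.card_mul_index]
  calc Nat.card H * H.index ≤ 1920 * 315 := Nat.mul_le_mul h1920 hi
    _ = 604800 := by norm_num

end CfsgLib.Spor.J2Unique
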